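import Groth.Agent.Lib.GeomRed6.Fibres
import Mathlib.AlgebraicGeometry.Morphisms.Separated
import Mathlib.RingTheory.DiscreteValuationRing.Basic

/-!
# Points over the fraction field of a valuation ring and their centres
-/

set_option autoImplicit false
set_option linter.style.haveILetI false

universe u

open CategoryTheory AlgebraicGeometry IsLocalRing

namespace GrothLib.DvrPts6

variable {Q : Scheme.{u}} {A : Type u} [CommRing A] [IsDomain A] [ValuationRing A] [IsLocalRing A]

theorem exists_section_of_specializes (p : Q ⟶ Spec (CommRingCat.of A)) {F : Type u} [Field F] [Algebra A F]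
    [IsFractionRing A F] (t : Spec (CommRingCat.of F) ⟶ Q)
    (ht : t ≫ p = Spec.map (CommRingCat.ofHom (algebraMap A F))) (x : Q) (hx : GeomRed6.pt t ⤳ x)
    (hpx : p x = closedPoint A) :
    ∃ s : Spec (CommRingCat.of A) ⟶ Q, s ≫ p = 𝟙 _ ∧ s (closedPoint A) = x ∧
      Spec.map (CommRingCat.ofHom (algebraMap A F)) ≫ s = t := by
  have hx' : t (closedPoint F) ⤳ x := hx
  let φ : Q.presheaf.stalk x ⟶ CommRingCat.of F := Q.presheaf.stalkSpecializes hx' ≫ Scheme.stalkClosedPointTo t
  have hφ : Spec.map φ ≫ Q.fromSpecStalk x = t := by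
    rw [Spec.map_comp, Category.assoc, Scheme.SpecMap_stalkSpecializes_fromSpecStalk,
      Scheme.Spec_stalkClosedPointTo_fromSpecStalk]
  obtain ⟨α, hα⟩ := Spec.map_surjective (Q.fromSpecStalk x ≫ p)
  have hφα : ∀ a, φ.hom (α.hom a) = algebraMap A F a := by
    have h1 : Spec.map (α ≫ φ) = Spec.map (CommRingCat.ofHom (algebraMap A F)) := by
      rw [Spec.map_comp, hα, ← Category.assoc, hφ, ht]
    exact fun a => RingHom.congr_fun (congrArg CommRingCat.Hom.hom (Spec.map_injective h1)) a
  have hαm : ∀ a ∈ maximalIdeal A, α.hom a ∈ maximalIdeal (Q.presheaf.stalk x) := fun a ha => by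
    have h1 : (Spec.map α) (closedPoint (Q.presheaf.stalk x)) = closedPoint A := by
      rw [hα, Scheme.Hom.comp_apply, Scheme.fromSpecStalk_closedPoint, hpx]
    exact (congrArg PrimeSpectrum.asIdeal h1).ge ha
  have hone : ∀ r ∈ maximalIdeal (Q.presheaf.stalk x), φ.hom r ≠ 1 := fun r hr h1 => by
    have hu : IsUnit (1 - r) := IsLocalRing.isUnit_one_sub_self_of_mem_nonunits r hr
    exact (hu.map φ.hom).ne_zero (by rw [map_sub, map_one, h1, sub_self])
  have hrange : ∀ r, ∃ a, algebraMap A F a = φ.hom r := fun r => by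
    rcases ValuationRing.isInteger_or_isInteger A (φ.hom r) with ⟨a, ha⟩ | ⟨a, ha⟩
    · exact ⟨a, ha⟩
    · by_cases hau : IsUnit a
      · obtain ⟨v, rfl⟩ := hau
        refine ⟨↑v⁻¹, ?_⟩
        rw [← inv_inv (φ.hom r), ← ha, ← map_units_inv]
      · by_cases hr0 : φ.hom r = 0
        · exact ⟨0, by rw [map_zero, hr0]⟩
        · exfalso
          refine hone (r * α.hom a) (Ideal.mul_mem_left _ _ (hαm a ((mem_maximalIdeal a).2 hau))) ?_
          rw [map_mul, hφα, ha, mul_inv_cancel₀ hr0]
  choose ψ hψ using hrange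
  have hinj := IsFractionRing.injective A F
  let ψ' : Q.presheaf.stalk x →+* A :=
    { toFun := ψ
      map_one' := hinj (by rw [hψ, map_one, map_one])
      map_mul' := fun a b => hinj (by rw [hψ, map_mul, map_mul, hψ, hψ])
      map_zero' := hinj (by rw [hψ, map_zero, map_zero])
      map_add' := fun a b => hinj (by rw [hψ, map_add, map_add, hψ, hψ]) }
  have hψα : ∀ a, ψ' (α.hom a) = a := fun a => hinj ((hψ _).trans (hφα a))
  refine ⟨Spec.map (CommRingCat.ofHom ψ') ≫ Q.fromSpecStalk x, ?_, ?_, ?_⟩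
  · rw [Category.assoc, ← hα, ← Spec.map_comp, ← Spec.map_id]
    congr 1
    exact CommRingCat.hom_ext (RingHom.ext hψα)
  · rw [Scheme.Hom.comp_apply]
    refine (congrArg _ ?_).trans Scheme.fromSpecStalk_closedPoint
    refine PrimeSpectrum.ext (le_antisymm (IsLocalRing.le_maximalIdeal (Ideal.IsPrime.ne_top inferInstance))
      fun r hr => ?_)
    show ψ' r ∈ maximalIdeal A
    refine (mem_maximalIdeal _).2 fun hu => ?_
    obtain ⟨v, hv⟩ := hu
    refine hone (r * α.hom ↑v⁻¹) (Ideal.mul_mem_right _ _ hr) ?_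
    rw [map_mul, hφα, ← hψ r, show ψ r = (v : A) from hv.symm, ← map_mul, Units.mul_inv, map_one]
  · rw [← Category.assoc, ← Spec.map_comp]
    refine Eq.trans ?_ hφ
    congr 2
    exact CommRingCat.hom_ext (RingHom.ext hψ)

theorem section_unique (p : Q ⟶ Spec (CommRingCat.of A)) [IsSeparated p] {F : Type u} [Field F] [Algebra A F]
    [IsFractionRing A F] (s₁ s₂ : Spec (CommRingCat.of A) ⟶ Q) (h₁ : s₁ ≫ p = 𝟙 _) (h₂ : s₂ ≫ p = 𝟙 _)
    (h : Spec.map (CommRingCat.ofHom (algebraMap A F)) ≫ s₁ = Spec.map (CommRingCat.ofHom (algebraMap A F)) ≫ s₂) :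
    s₁ = s₂ := by
  haveI : IsDominant (Spec.map (CommRingCat.ofHom (algebraMap A F))) := by
    refine ⟨?_⟩
    exact PrimeSpectrum.denseRange_comap_iff_ker_le_nilRadical (algebraMap A F) |>.2 (by
      rw [(RingHom.injective_iff_ker_eq_bot _).1 (IsFractionRing.injective A F)]
      exact bot_le)
  exact ext_of_isDominant_of_isSeparated p (h₁.trans h₂.symm) _ h

end GrothLib.DvrPts6
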