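import Groth.Agent.Lib.DvrPts6.Count
import Groth.Agent.Lib.DvrPts6.Valuative
import Mathlib.RingTheory.Valuation.LocalSubring
import Mathlib.FieldTheory.IsAlgClosed.AlgebraicClosure
import Mathlib.AlgebraicGeometry.Morphisms.UniversallyOpen

/-!
# Geometric numbers of points over valuation rings with algebraically closed fraction field
-/

set_option autoImplicit false
set_option linter.style.haveILetI false

universe u

open CategoryTheory CategoryTheory.Limits AlgebraicGeometry Topology IsLocalRing

namespace GrothLib.DvrPts6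

variable {X Y : Scheme.{u}}

theorem isAlgClosed_residueField_valuationSubring {Ω : Type u} [Field Ω] [IsAlgClosed Ω] (V : ValuationSubring Ω) :
    IsAlgClosed (ResidueField V) := by
  refine IsAlgClosed.of_exists_root _ fun p hp hirr => ?_
  obtain ⟨q, hq, hdeg, hqm⟩ := Polynomial.lifts_and_degree_eq_and_monic
    (Polynomial.mem_lifts p |>.2 (Polynomial.map_surjective (residue V) residue_surjective p)) hp
  obtain ⟨r, hr⟩ := IsAlgClosed.exists_aeval_eq_zero Ω q (by
    rw [hdeg]
    exact (Polynomial.degree_pos_of_irreducible hirr).ne')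
  obtain ⟨b, hb⟩ := IsIntegrallyClosed.algebraMap_eq_of_integral (R := V) (K := Ω) ⟨q, hqm, hr⟩
  refine ⟨residue V b, ?_⟩
  have h0 : Polynomial.aeval b q = 0 := IsFractionRing.injective V Ω (by
    rw [← Polynomial.aeval_algebraMap_apply, hb, hr, map_zero])
  rw [← hq, Polynomial.eval_map, Polynomial.eval₂_at_apply, ← Polynomial.coe_aeval_eq_eval, h0, map_zero]

theorem pt_fractionRing (O : Type u) [CommRing O] [IsDomain O] (L : Type u) [Field L] [Algebra O L]
    [IsFractionRing O L] :
    GeomRed6.pt (Spec.map (CommRingCat.ofHom (algebraMap O L))) = genericPoint (Spec (CommRingCat.of O)) := by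
  rw [show genericPoint (Spec (CommRingCat.of O)) = (⟨⊥, Ideal.isPrime_bot⟩ : PrimeSpectrum O) from
    genericPoint_eq_bot_of_affine _]
  refine PrimeSpectrum.ext ?_
  show (closedPoint L).asIdeal.comap (algebraMap O L) = ⊥
  rw [show (closedPoint L).asIdeal = (⊥ : Ideal L) from IsLocalRing.maximalIdeal_eq_bot, ← RingHom.ker_eq_comap_bot]
  exact (RingHom.injective_iff_ker_eq_bot _).1 (IsFractionRing.injective O L)

/-- Over a valuation ring with algebraically closed fraction field the geometric numbers are the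
cardinalities of the fibres, and the points of the generic fibre are rational. -/
theorem realizing_of_algClosed (f : X ⟶ Y) [LocallyQuasiFinite f] [LocallyOfFiniteType f]
    {Ω : Type u} [Field Ω] [IsAlgClosed Ω] (V : ValuationSubring Ω) (g : Spec (CommRingCat.of V) ⟶ Y) :
    MoreMor.nGeomConnComp f (g (closedPoint V)) = ENat.card ↥((pullback.snd f g).fiber (closedPoint V)) ∧
      MoreMor.nGeomConnComp f (g (genericPoint (Spec (CommRingCat.of V)))) =
        ENat.card ↥((pullback.snd f g).fiber (genericPoint (Spec (CommRingCat.of V)))) ∧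
      ∀ z : ↥(pullback f g), pullback.snd f g z = genericPoint (Spec (CommRingCat.of V)) →
        ∃ (t : Spec (CommRingCat.of Ω) ⟶ pullback f g),
          t ≫ pullback.snd f g = Spec.map (CommRingCat.ofHom (algebraMap V Ω)) ∧ GeomRed6.pt t = z := by
  haveI := isAlgClosed_residueField_valuationSubring V
  let ι := Spec.map (CommRingCat.ofHom (algebraMap V Ω))
  haveI : IsPreimmersion ι := IsPreimmersion.of_isLocalization (nonZeroDivisors V)
  have hpt : GeomRed6.pt ι = genericPoint (Spec (CommRingCat.of V)) := pt_fractionRing V Ω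
  refine ⟨?_, ?_, fun z hz => ?_⟩
  · let ι' := Spec.map (CommRingCat.ofHom (residue V))
    haveI : IsClosedImmersion ι' := IsClosedImmersion.spec_of_surjective _ residue_surjective
    have hpt' : GeomRed6.pt ι' = closedPoint V := IsLocalRing.comap_closedPoint (residue V)
    rw [card_fiber_eq f g ι' _ hpt', ← nGeom_eq_card f (ι' ≫ g), ← hpt']
    rfl
  · rw [card_fiber_eq f g ι _ hpt, ← nGeom_eq_card f (ι ≫ g), ← hpt]
    rfl
  · let j : pullback f (ι ≫ g) ⟶ pullback f g :=
      pullback.lift (pullback.fst _ _) (pullback.snd _ _ ≫ ι) (by rw [pullback.condition, Category.assoc])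
    have sq : IsPullback j (pullback.snd f _) (pullback.snd f g) ι := by
      refine IsPullback.of_right ?_ (pullback.lift_snd _ _ _) (IsPullback.of_hasPullback f g)
      rw [pullback.lift_fst]
      exact IsPullback.of_hasPullback f _
    obtain ⟨zL, hzL, -⟩ := Scheme.exists_preimage_of_isPullback sq z (closedPoint Ω) (hz.trans hpt.symm)
    haveI := discreteTopology_pullback f (ι ≫ g)
    refine ⟨pointOfClosedPoint (pullback.snd f _) zL (isClosed_discrete _) ≫ j, ?_, ?_⟩
    · rw [Category.assoc, pullback.lift_snd, ← Category.assoc, pointOfClosedPoint_comp, Category.id_comp]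
    · rw [← hzL]
      exact (Scheme.Hom.comp_apply _ _ _).trans (congrArg j (pointOfClosedPoint_apply _ _ _ _))

/-- If each closed point has a generization in the generic fibre then there are at most as many
closed points as generic ones, and equality gives every generic point a centre. -/
theorem card_le_and_centre_valuation (f : X ⟶ Y) [IsSeparated f] [LocallyQuasiFinite f]
    [LocallyOfFiniteType f] [QuasiCompact f]
    {Ω : Type u} [Field Ω] [IsAlgClosed Ω] (V : ValuationSubring Ω) (g : Spec (CommRingCat.of V) ⟶ Y)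
    (hgen : ∀ x : ↥(pullback f g), pullback.snd f g x = closedPoint V →
      ∃ z, z ⤳ x ∧ pullback.snd f g z = genericPoint (Spec (CommRingCat.of V))) :
    MoreMor.nGeomConnComp f (g (closedPoint V)) ≤ MoreMor.nGeomConnComp f (g (genericPoint (Spec (CommRingCat.of V)))) ∧
      (MoreMor.nGeomConnComp f (g (closedPoint V)) =
          MoreMor.nGeomConnComp f (g (genericPoint (Spec (CommRingCat.of V)))) →
        ∀ z : ↥(pullback f g), pullback.snd f g z = genericPoint (Spec (CommRingCat.of V)) →
          ∃ x, z ⤳ x ∧ pullback.snd f g x = closedPoint V) := by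
  obtain ⟨h1, h2, hrat⟩ := realizing_of_algClosed f V g
  rw [h1, h2]
  let p := pullback.snd f g
  haveI : IsSeparated p := MorphismProperty.pullback_snd f g inferInstance
  haveI : LocallyQuasiFinite p := MorphismProperty.pullback_snd f g inferInstance
  haveI : QuasiCompact p := MorphismProperty.pullback_snd f g inferInstance
  let C := p ⁻¹' {closedPoint V}
  let G := p ⁻¹' {genericPoint (Spec (CommRingCat.of V))}
  have hex : ∀ x : C, ∃ z : G, (z : ↥(pullback f g)) ⤳ x := fun x => by
    obtain ⟨z, hz, hzg⟩ := hgen x.1 x.2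
    exact ⟨⟨z, hzg⟩, hz⟩
  choose Φ hΦ using hex
  have huniq : ∀ (z : G) (x₁ x₂ : C), (z : ↥(pullback f g)) ⤳ x₁ → (z : ↥(pullback f g)) ⤳ x₂ → x₁ = x₂ := by
    intro z x₁ x₂ h₁ h₂
    obtain ⟨t, ht, htz⟩ := hrat z.1 z.2
    obtain ⟨s₁, hs₁, hs₁', hs₁''⟩ := exists_section_of_specializes p t ht x₁.1 (htz ▸ h₁) x₁.2
    obtain ⟨s₂, hs₂, hs₂', hs₂''⟩ := exists_section_of_specializes p t ht x₂.1 (htz ▸ h₂) x₂.2
    have he := section_unique p (F := Ω) s₁ s₂ hs₁ hs₂ (hs₁''.trans hs₂''.symm)
    exact Subtype.ext (by rw [← hs₁', he, hs₂'])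
  have hinj : Function.Injective Φ := fun x₁ x₂ h => huniq (Φ x₂) x₁ x₂ (h ▸ hΦ x₁) (hΦ x₂)
  haveI : ∀ s, Finite ↥(p.fiber s) := fun s => by
    haveI : CompactSpace ↥(p.fiber s) := inferInstance
    haveI : DiscreteTopology ↥(p.fiber s) := inferInstance
    exact finite_of_compact_of_discrete
  have hc : ENat.card ↥(p.fiber (closedPoint V)) = ENat.card C := ENat.card_congr (p.fiberHomeo _).toEquiv
  have hg : ENat.card ↥(p.fiber (genericPoint (Spec (CommRingCat.of V)))) = ENat.card G :=
    ENat.card_congr (p.fiberHomeo _).toEquiv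
  rw [hc, hg]
  refine ⟨ENat.card_le_card_of_injective hinj, fun he z hz => ?_⟩
  haveI : Finite C := Finite.of_equiv _ (p.fiberHomeo _).toEquiv
  haveI : Finite G := Finite.of_equiv _ (p.fiberHomeo _).toEquiv
  have hn : Nat.card C = Nat.card G := by
    rw [ENat.card_eq_coe_natCard, ENat.card_eq_coe_natCard] at he
    exact_mod_cast he
  obtain ⟨x, hx⟩ := (hinj.bijective_of_nat_card_le hn.ge).2 ⟨z, hz⟩
  exact ⟨x.1, by have h4 := hΦ x; rw [hx] at h4; exact h4, x.2⟩

theorem exists_generization_of_flat (f : X ⟶ Y) [Flat f] {S : Scheme.{u}} (g : S ⟶ Y) {s' s : S}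
    (h : s' ⤳ s) (x : ↥(pullback f g)) (hx : pullback.snd f g x = s) :
    ∃ z, z ⤳ x ∧ pullback.snd f g z = s' := by
  haveI : Flat (pullback.snd f g) := MorphismProperty.pullback_snd f g inferInstance
  exact Flat.generalizingMap (pullback.snd f g) (hx ▸ h)

/-- A valuation ring with algebraically closed fraction field through a specialization. -/
theorem exists_valuationSubring_of_specializes {y' y : Y} (h : y' ⤳ y) :
    ∃ (Ω : Type u) (_ : Field Ω) (_ : IsAlgClosed Ω) (V : ValuationSubring Ω) (g : Spec (CommRingCat.of V) ⟶ Y),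
      g (closedPoint V) = y ∧ g (genericPoint (Spec (CommRingCat.of V))) = y' := by
  let Ω := AlgebraicClosure (Y.residueField y')
  let ψ : Y.presheaf.stalk y ⟶ CommRingCat.of Ω :=
    Y.presheaf.stalkSpecializes h ≫ Y.residue y' ≫ CommRingCat.ofHom (algebraMap (Y.residueField y') Ω)
  obtain ⟨V, hV, hloc⟩ := IsLocalRing.exists_factor_valuationRing ψ.hom
  let θ : Y.presheaf.stalk y →+* V := ψ.hom.codRestrict V.toSubring hV
  haveI : IsLocalHom θ := hloc
  refine ⟨Ω, inferInstance, inferInstance, V, Spec.map (CommRingCat.ofHom θ) ≫ Y.fromSpecStalk y, ?_, ?_⟩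
  · rw [Scheme.Hom.comp_apply]
    exact (congrArg _ (IsLocalRing.comap_closedPoint θ)).trans Scheme.fromSpecStalk_closedPoint
  · rw [← pt_fractionRing V Ω]
    show _ = y'
    rw [GeomRed6.pt, ← Scheme.Hom.comp_apply, ← Category.assoc, ← Spec.map_comp,
      show CommRingCat.ofHom θ ≫ CommRingCat.ofHom (algebraMap V Ω) = ψ from rfl, Spec.map_comp, Spec.map_comp,
      Category.assoc, Category.assoc, Scheme.SpecMap_stalkSpecializes_fromSpecStalk]
    exact (Scheme.Hom.comp_apply _ (Y.fromSpecResidueField y') _).trans (Scheme.fromSpecResidueField_apply y' _)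

/-- The geometric number of points of a flat morphism does not drop at generizations. -/
theorem nGeom_le_of_specializes_of_flat (f : X ⟶ Y) [Flat f] [IsSeparated f] [LocallyQuasiFinite f]
    [LocallyOfFiniteType f] [QuasiCompact f] {y y' : Y} (h : y' ⤳ y) :
    MoreMor.nGeomConnComp f y ≤ MoreMor.nGeomConnComp f y' := by
  obtain ⟨Ω, _, _, V, g, hc, hη⟩ := exists_valuationSubring_of_specializes h
  rw [← hc, ← hη]
  exact (card_le_and_centre_valuation f V g fun x hx =>
    exists_generization_of_flat f g (genericPoint_specializes _) x hx).1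

end GrothLib.DvrPts6
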