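import Groth.Agent.Lib.DvrPts6.Semicont
import Groth.Agent.Lib.UnibOpen6.FiniteComponents
import Groth.Agent.Lib.Chev28.TFAE
import Groth.Agent.Lib.AlgSp.FibreDimZero

/-!
# Components meeting each other and the geometric number of points
-/

set_option autoImplicit false
set_option linter.style.haveILetI false

universe u

open CategoryTheory CategoryTheory.Limits AlgebraicGeometry Topology IsLocalRing

namespace GrothLib.DvrPts6

variable {X Y : Scheme.{u}}

/-- With equal numbers of points, two generic points with the same centre coincide. -/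
theorem generization_unique (f : X ⟶ Y) [IsSeparated f] [LocallyQuasiFinite f] [LocallyOfFiniteType f] [QuasiCompact f]
    (O : Type u) [CommRing O] [IsDomain O] [IsDiscreteValuationRing O] (g : Spec (CommRingCat.of O) ⟶ Y)
    (hop : ∀ x : X, f x = g (closedPoint O) → EGA43.IsUnivOpenAt f x)
    (hrat : ∀ z : ↥(pullback f g), pullback.snd f g z = genericPoint (Spec (CommRingCat.of O)) →
        ∃ (F : Type u) (_ : Field F) (_ : Algebra O F) (_ : IsFractionRing O F)
          (t : Spec (CommRingCat.of F) ⟶ pullback f g),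
          t ≫ pullback.snd f g = Spec.map (CommRingCat.ofHom (algebraMap O F)) ∧ GeomRed6.pt t = z)
    (he : ENat.card ↥((pullback.snd f g).fiber (closedPoint O)) =
      ENat.card ↥((pullback.snd f g).fiber (genericPoint (Spec (CommRingCat.of O)))))
    {z₁ z₂ x : ↥(pullback f g)} (hx : pullback.snd f g x = closedPoint O)
    (h₁ : z₁ ⤳ x) (h₁' : pullback.snd f g z₁ = genericPoint (Spec (CommRingCat.of O)))
    (h₂ : z₂ ⤳ x) (h₂' : pullback.snd f g z₂ = genericPoint (Spec (CommRingCat.of O))) : z₁ = z₂ := by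
  let p := pullback.snd f g
  haveI : IsSeparated p := MorphismProperty.pullback_snd f g inferInstance
  haveI : LocallyQuasiFinite p := MorphismProperty.pullback_snd f g inferInstance
  haveI : QuasiCompact p := MorphismProperty.pullback_snd f g inferInstance
  let C := p ⁻¹' {closedPoint O}
  let G := p ⁻¹' {genericPoint (Spec (CommRingCat.of O))}
  haveI : Finite C := @Finite.of_equiv _ _ (finite_fiber p _) (p.fiberHomeo _).toEquiv
  haveI : Finite G := @Finite.of_equiv _ _ (finite_fiber p _) (p.fiberHomeo _).toEquiv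
  have huniq : ∀ (z : G) (a b : C), (z : ↥(pullback f g)) ⤳ a → (z : ↥(pullback f g)) ⤳ b → a = b := by
    intro z a b ha hb
    obtain ⟨F, _, _, _, t, ht, htz⟩ := hrat z.1 z.2
    obtain ⟨s, hs, hs', hs''⟩ := exists_section_of_specializes p t ht a.1 (htz ▸ ha) a.2
    obtain ⟨s₂, hs₂, hs₂', hs₂''⟩ := exists_section_of_specializes p t ht b.1 (htz ▸ hb) b.2
    have := section_unique p (F := F) s s₂ hs hs₂ (hs''.trans hs₂''.symm)
    exact Subtype.ext (by rw [← hs', this, hs₂'])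
  have hcentre : ∀ z : G, ∃ c : C, (z : ↥(pullback f g)) ⤳ c := fun z => by
    obtain ⟨c, hc, hc'⟩ := (card_le_and_centre f O g hop hrat).2 he z.1 z.2
    exact ⟨⟨c, hc'⟩, hc⟩
  choose c hc using hcentre
  have hsurj : Function.Surjective c := fun a => by
    have hfa : f (pullback.fst f g a.1) = g (closedPoint O) := by
      rw [← Scheme.Hom.comp_apply, pullback.condition, Scheme.Hom.comp_apply]
      exact congrArg g a.2
    obtain ⟨z, hz, hzg⟩ := UnivOpenAt6.dvr_of_univOpenAt f (hop _ hfa) O g a.1 rfl a.2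
    let z' : G := ⟨z, hzg.trans (genericPoint_eq_bot_of_affine _).symm⟩
    exact ⟨z', huniq z' _ _ (hc z') hz⟩
  rw [ENat.card_congr (p.fiberHomeo _).toEquiv, ENat.card_congr (p.fiberHomeo _).toEquiv,
    ENat.card_eq_coe_natCard, ENat.card_eq_coe_natCard] at he
  have hinj := (hsurj.bijective_of_nat_card_le (Nat.cast_injective he).ge).1
  exact congrArg Subtype.val (hinj (a₁ := ⟨z₁, h₁'⟩) (a₂ := ⟨z₂, h₂'⟩)
    ((huniq _ _ ⟨x, hx⟩ (hc _) h₁).trans (huniq _ _ ⟨x, hx⟩ (hc _) h₂).symm))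

theorem maximal_of_univOpen [IsLocallyNoetherian Y] (f : X ⟶ Y) {ξ : X} (h : EGA43.IsUnivOpenAt f ξ)
    (hmax : ∀ z, z ⤳ ξ → z = ξ) (y' : Y) (hy' : y' ⤳ f ξ) : y' = f ξ := by
  obtain ⟨D, _, _, _, g, hg, hg'⟩ := SubtrLim.exists_dvr_map hy'
  obtain ⟨x', hx', hx''⟩ := Scheme.exists_preimage_of_isPullback (IsPullback.of_hasPullback f g) ξ
    (closedPoint D) hg'.symm
  obtain ⟨z, hz, hzg⟩ := UnivOpenAt6.dvr_of_univOpenAt f h D g x' hx' hx''
  rw [← hg, ← hmax _ (hx' ▸ hz.map (pullback.fst f g).continuous), ← Scheme.Hom.comp_apply,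
    pullback.condition, Scheme.Hom.comp_apply, hzg]

theorem eq_of_mem_fibre (f : X ⟶ Y) [LocallyQuasiFinite f] {a b : X} (h : a ⤳ b) (he : f a = f b) : a = b := by
  haveI : DiscreteTopology ↥(f ⁻¹' {f b}) := (f.fiberHomeo (f b)).discreteTopology
  exact congrArg Subtype.val ((subtype_specializes_iff (x := (⟨a, he⟩ : ↥(f ⁻¹' {f b}))) (y := ⟨b, rfl⟩)).2 h).eq

theorem maximal_points_eq [IsLocallyNoetherian Y] (hY : ∀ y : Y, CAlg2.IsGeomUnibranch (Y.presheaf.stalk y))
    (f : X ⟶ Y) [IsSeparated f] [LocallyQuasiFinite f] [LocallyOfFiniteType f] [QuasiCompact f]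
    (hf : ∀ x : X, EGA43.IsUnivOpenAt f x) (x : X)
    (hn : ∀ y', y' ⤳ f x → MoreMor.nGeomConnComp f y' = MoreMor.nGeomConnComp f (f x))
    {ξ ξ' : X} (hξ : ξ ⤳ x) (hξ' : ξ' ⤳ x) (hmax : ∀ z, z ⤳ ξ → z = ξ) (hmax' : ∀ z, z ⤳ ξ' → z = ξ') :
    ξ = ξ' := by
  obtain ⟨η, hηy, hη⟩ := UnibOpen6.exists_most_generic (f x) (hY _)
  obtain ⟨D, _, _, _, g₀, hg₀, hg₀'⟩ := SubtrLim.exists_dvr_map hηy
  obtain ⟨O, _, _, _, χ, _, hχ, hO⟩ := exists_extension_realizing f D g₀
  obtain ⟨h1, h2, h3⟩ := hO _ rfl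
  obtain ⟨hc, hgen⟩ := closedPoint_and_generic χ hχ
  let g : Spec (CommRingCat.of O) ⟶ Y := Spec.map (CommRingCat.ofHom χ) ≫ g₀
  have hgc : g (closedPoint O) = f x := by rw [Scheme.Hom.comp_apply, hc]; exact hg₀'
  have hgη : g (genericPoint (Spec (CommRingCat.of O))) = η := by
    rw [Scheme.Hom.comp_apply, hgen]
    exact (congrArg g₀ (genericPoint_eq_bot_of_affine _)).trans hg₀
  have he := h1.symm.trans (by rw [hgc, hgη, hn η hηy]) |>.trans h2
  obtain ⟨x', hx', hx''⟩ := Scheme.exists_preimage_of_isPullback (IsPullback.of_hasPullback f g) x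
    (closedPoint O) hgc.symm
  have key : ∀ ξ : X, ξ ⤳ x → (∀ z, z ⤳ ξ → z = ξ) → ∃ z : ↥(pullback f g), z ⤳ x' ∧
      pullback.snd f g z = genericPoint (Spec (CommRingCat.of O)) ∧ pullback.fst f g z = ξ := by
    intro ξ hξ hmax
    have hfξ : f ξ = η := (maximal_of_univOpen f (hf ξ) hmax η (hη _ (hξ.map f.continuous))).symm
    obtain ⟨Z, ι, _, _, hrange, hgenZ⟩ := Chev28.exists_integral_closure ξ
    obtain ⟨w, hw⟩ := hrange.ge hξ.mem_closure
    have hu : EGA43.IsUnivOpenAt (ι ≫ f) w := Chev28.isUnivOpenAt_of_integral (ι ≫ f) w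
      (fun y' hy' => by
        rw [Scheme.Hom.comp_apply, hgenZ] at hy' ⊢
        exact maximal_of_univOpen f (hf ξ) hmax y' hy')
      (hY _) 0 (AlgSp.resTrdeg_eq_zero_of_lqf (ι ≫ f) _)
      ((AlgSp.lqf_iff_fibreDimAt (ι ≫ f)).1 inferInstance w)
    let c' : pullback (ι ≫ f) g ⟶ pullback f g :=
      pullback.map (ι ≫ f) g f g ι (𝟙 _) (𝟙 _) (Category.comp_id _) ((Category.comp_id _).trans (Category.id_comp _).symm)
    have hsnd : c' ≫ pullback.snd f g = pullback.snd (ι ≫ f) g := (pullback.lift_snd _ _ _).trans (Category.comp_id _)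
    have hfst : c' ≫ pullback.fst f g = pullback.fst (ι ≫ f) g ≫ ι := pullback.lift_fst _ _ _
    have hsq : IsPullback c' (pullback.fst (ι ≫ f) g) (pullback.fst f g) ι := by
      refine IsPullback.of_right ?_ hfst (IsPullback.of_hasPullback f g).flip
      rw [hsnd]
      exact (IsPullback.of_hasPullback (ι ≫ f) g).flip
    obtain ⟨w', hw', hw''⟩ := Scheme.exists_preimage_of_isPullback hsq x' w (hx'.trans hw.symm)
    obtain ⟨z, hz, hzg⟩ := UnivOpenAt6.dvr_of_univOpenAt (ι ≫ f) hu O g w' hw'' (by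
      rw [← hsnd, Scheme.Hom.comp_apply, hw', hx''])
    have hzg' : pullback.snd f g (c' z) = genericPoint (Spec (CommRingCat.of O)) := by
      rw [← Scheme.Hom.comp_apply, hsnd, hzg]
      exact (genericPoint_eq_bot_of_affine _).symm
    refine ⟨c' z, hw' ▸ hz.map c'.continuous, hzg', ?_⟩
    have hmem : pullback.fst f g (c' z) ∈ closure ({ξ} : Set X) := by
      rw [← Scheme.Hom.comp_apply, hfst, Scheme.Hom.comp_apply]
      exact hrange.le ⟨_, rfl⟩
    refine (eq_of_mem_fibre f (specializes_iff_mem_closure.2 hmem) ?_).symm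
    rw [hfξ, ← Scheme.Hom.comp_apply, pullback.condition, Scheme.Hom.comp_apply, hzg', hgη]
  obtain ⟨z₁, h₁, h₁', rfl⟩ := key ξ hξ hmax
  obtain ⟨z₂, h₂, h₂', rfl⟩ := key ξ' hξ' hmax'
  rw [generization_unique f O g (fun a _ => hf a) h3 he hx'' h₁ h₁' h₂ h₂']

theorem components_disjoint [IsLocallyNoetherian Y] (hY : ∀ y : Y, CAlg2.IsGeomUnibranch (Y.presheaf.stalk y))
    (f : X ⟶ Y) [IsSeparated f] [LocallyQuasiFinite f] [LocallyOfFiniteType f] [QuasiCompact f]
    (hf : ∀ x : X, EGA43.IsUnivOpenAt f x)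
    (hn : IsLocallyConstant (fun z : Y => MoreMor.nGeomConnComp f z))
    {Z Z' : Set X} (hZ : Z ∈ irreducibleComponents (X : Type u)) (hZ' : Z' ∈ irreducibleComponents (X : Type u))
    (hne : Z ≠ Z') : Disjoint Z Z' := by
  rw [Set.disjoint_iff]
  rintro x ⟨hx, hx'⟩
  obtain ⟨ξ, hξ⟩ := QuasiSober.sober hZ.1 (isClosed_of_mem_irreducibleComponents _ hZ)
  obtain ⟨ξ', hξ'⟩ := QuasiSober.sober hZ'.1 (isClosed_of_mem_irreducibleComponents _ hZ')
  have hmax : ∀ (T : Set X) (a : X), T ∈ irreducibleComponents (X : Type u) → IsGenericPoint a T →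
      ∀ z, z ⤳ a → z = a := fun T a hT ha z hz => by
    have := hT.2 (y := closure {z}) isIrreducible_singleton.closure
      fun t ht => (hz.trans (ha.specializes ht)).mem_closure
    exact (hz.antisymm (ha.specializes (this (subset_closure rfl)))).eq
  refine hne (hξ.def.symm.trans ((congrArg (fun a => closure ({a} : Set X)) ?_).trans hξ'.def))
  exact maximal_points_eq hY f hf x
    (fun y' hy' => (hy'.mem_open (hn.isOpen_fiber _) rfl : y' ∈ {a | _ = MoreMor.nGeomConnComp f (f x)}))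
    (hξ.specializes hx) (hξ'.specializes hx') (hmax Z ξ hZ hξ) (hmax Z' ξ' hZ' hξ')

end GrothLib.DvrPts6
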