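import Groth.Agent.Lib.GeomComp6.BaseChange
import Groth.Agent.Lib.Weight.Bound
import Mathlib.AlgebraicGeometry.AlgClosed.Basic

/-!
# Counting geometric points of finite fibres over large fields
-/

set_option autoImplicit false
set_option linter.style.haveILetI false

universe u

open CategoryTheory CategoryTheory.Limits AlgebraicGeometry Topology

namespace GrothLib.DvrPts6

variable {X Y : Scheme.{u}}

theorem discreteTopology_pullback (f : X ⟶ Y) [LocallyQuasiFinite f] {F : Type u} [Field F]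
    (t : Spec (CommRingCat.of F) ⟶ Y) : DiscreteTopology ↥(pullback f t) := by
  haveI h : LocallyQuasiFinite (pullback.snd f t) := MorphismProperty.pullback_snd _ _ ‹_›
  haveI : IsLocallyArtinian (pullback f t) := @IsLocallyArtinian.of_locallyQuasiFinite _ _ _ h _
  infer_instance

theorem nGeom_eq_card (f : X ⟶ Y) [LocallyQuasiFinite f] {F : Type u} [Field F] [IsSepClosed F]
    (t : Spec (CommRingCat.of F) ⟶ Y) :
    MoreMor.nGeomConnComp f (GeomRed6.pt t) = ENat.card ↥(pullback f t) := by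
  haveI := discreteTopology_pullback f t
  rw [show MoreMor.nGeomConnComp f (GeomRed6.pt t) = (GeomComp6.count (pullback f t)).2 from
    congrArg Prod.snd (GeomComp6.count_geomFiber_eq f t rfl)]
  refine (ENat.card_congr (Equiv.ofBijective ConnectedComponents.mk ⟨fun a b h ↦ ?_,
    ConnectedComponents.surjective_coe⟩)).symm
  have := ConnectedComponents.coe_eq_coe.mp h
  rw [connectedComponent_eq_singleton, connectedComponent_eq_singleton] at this
  exact Set.singleton_injective this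

/-- The fibre over a point, computed through a field point. -/
theorem card_fiber_eq {S : Scheme.{u}} (f : X ⟶ Y) (g : S ⟶ Y) {F : Type u} [Field F]
    (ι : Spec (CommRingCat.of F) ⟶ S) [IsPreimmersion ι] (z : S) (hz : GeomRed6.pt ι = z) :
    ENat.card ↥((pullback.snd f g).fiber z) = ENat.card ↥(pullback f (ι ≫ g)) := by
  have hr : Set.range ι = {z} := by
    refine Set.eq_singleton_iff_unique_mem.2 ⟨⟨_, hz⟩, ?_⟩
    rintro _ ⟨a, rfl⟩
    rw [← hz]
    exact congrArg ι (Subsingleton.elim (α := PrimeSpectrum _) a _)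
  have h1 : Set.range (pullback.fst (pullback.snd f g) ι) = pullback.snd f g ⁻¹' {z} := by
    rw [Scheme.Pullback.range_fst, hr]
  haveI : IsPreimmersion (pullback.fst (pullback.snd f g) ι) := MorphismProperty.pullback_fst _ _ ‹_›
  rw [ENat.card_congr (((pullback.snd f g).fiberHomeo z).toEquiv.trans
    ((Equiv.setCongr h1.symm).trans (Equiv.ofInjective _ (pullback.fst (pullback.snd f g) ι).isEmbedding.injective).symm))]
  exact ENat.card_congr (pullbackLeftPullbackSndIso f g ι).hom.homeomorph.toEquiv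

/-- Two field points over the base with the same image are equal. -/
theorem point_unique {Q : Scheme.{u}} {F : Type u} [Field F] (p : Q ⟶ Spec (CommRingCat.of F))
    (t₁ t₂ : Spec (CommRingCat.of F) ⟶ Q) (h₁ : t₁ ≫ p = 𝟙 _) (h₂ : t₂ ≫ p = 𝟙 _)
    (h : GeomRed6.pt t₁ = GeomRed6.pt t₂) : t₁ = t₂ := by
  obtain ⟨σ₁, hσ₁⟩ := GeomRed6.exists_factor t₁
  obtain ⟨σ₂, hσ₂⟩ := GeomRed6.exists_factor t₂
  suffices key : ∀ (z : Q) (σ σ' : Spec (CommRingCat.of F) ⟶ Spec (Q.residueField z)),
      (σ ≫ Q.fromSpecResidueField z) ≫ p = 𝟙 _ → (σ' ≫ Q.fromSpecResidueField z) ≫ p = 𝟙 _ → σ = σ' by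
    revert σ₁
    rw [h]
    intro σ₁ hσ₁
    exact hσ₁.symm.trans ((congrArg (· ≫ _) (key _ σ₁ σ₂ (by rw [hσ₁, h₁]) (by rw [hσ₂, h₂]))).trans hσ₂)
  intro z σ σ' hσ hσ'
  obtain ⟨φ₁, rfl⟩ := Spec.map_surjective σ
  obtain ⟨φ₂, rfl⟩ := Spec.map_surjective σ'
  obtain ⟨ψ, hψ⟩ := Spec.map_surjective (Q.fromSpecResidueField z ≫ p)
  have key : ∀ φ : Q.residueField z ⟶ CommRingCat.of F,
      (Spec.map φ ≫ Q.fromSpecResidueField z) ≫ p = 𝟙 _ → ∀ a, φ.hom (ψ.hom a) = a := fun φ hφ => by
    rw [Category.assoc, ← hψ, ← Spec.map_comp, ← Spec.map_id] at hφ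
    exact fun a => RingHom.congr_fun (congrArg CommRingCat.Hom.hom (Spec.map_injective hφ)) a
  congr 1
  refine CommRingCat.hom_ext (RingHom.ext fun a => ?_)
  have ha : ψ.hom (φ₁.hom a) = a := φ₁.hom.injective (key φ₁ hσ _)
  calc φ₁.hom a = φ₂.hom (ψ.hom (φ₁.hom a)) := (key φ₂ hσ' _).symm
    _ = φ₂.hom a := congrArg φ₂.hom ha

/-- A finite extension computing the geometric number of points. -/
theorem exists_finite_extension (f : X ⟶ Y) [LocallyQuasiFinite f] [LocallyOfFiniteType f] [QuasiCompact f]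
    {K : Type u} [Field K] (g : Spec (CommRingCat.of K) ⟶ Y) :
    ∃ L : IntermediateField K (AlgebraicClosure K), FiniteDimensional K L ∧
      MoreMor.nGeomConnComp f (GeomRed6.pt g) =
        ENat.card ↥(pullback f (Spec.map (CommRingCat.ofHom (algebraMap K L)) ≫ g)) ∧
      ∀ z : ↥(pullback f (Spec.map (CommRingCat.ofHom (algebraMap K L)) ≫ g)),
        ∃ t : Spec (CommRingCat.of L) ⟶ pullback f (Spec.map (CommRingCat.ofHom (algebraMap K L)) ≫ g),
          t ≫ pullback.snd f _ = 𝟙 _ ∧ GeomRed6.pt t = z := by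
  classical
  let Ω := AlgebraicClosure K
  let gΩ := Spec.map (CommRingCat.ofHom (algebraMap K Ω)) ≫ g
  let Q := pullback f gΩ
  haveI : DiscreteTopology ↥Q := discreteTopology_pullback f gΩ
  haveI : QuasiCompact (pullback.snd f gΩ) := MorphismProperty.pullback_snd _ _ ‹_›
  haveI : LocallyOfFiniteType (pullback.snd f gΩ) := MorphismProperty.pullback_snd _ _ ‹_›
  haveI : CompactSpace ↥Q := QuasiCompact.compactSpace_of_compactSpace (pullback.snd f gΩ)
  haveI : Finite ↥Q := finite_of_compact_of_discrete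
  obtain ⟨_, ⟨(V : Y.Opens), hV, rfl⟩, hyV, -⟩ := Y.isBasis_affineOpens.exists_subset_of_mem_open
    (Set.mem_univ (GeomRed6.pt g)) isOpen_univ
  let s : ↥Q → (Spec (CommRingCat.of Ω) ⟶ Q) := fun p =>
    pointOfClosedPoint (pullback.snd f gΩ) p (isClosed_discrete _)
  have hs : ∀ p, s p ≫ pullback.snd f gΩ = 𝟙 _ := fun p => pointOfClosedPoint_comp _ _ _
  have hsp : ∀ p a, s p a = p := fun p a => pointOfClosedPoint_apply _ _ _ a
  have hsub : ∀ a : Spec (CommRingCat.of Ω), gΩ a = GeomRed6.pt g := fun a => by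
    rw [Scheme.Hom.comp_apply]
    exact congrArg g (Subsingleton.elim (α := PrimeSpectrum _) _ _)
  have hchart : ∀ p : ↥Q, ∃ S : Finset Ω, ∀ L : IntermediateField K Ω, (↑S : Set Ω) ⊆ L →
      ∃ v : Spec (CommRingCat.of L) ⟶ X, v ≫ f = Spec.map (CommRingCat.ofHom (algebraMap K L)) ≫ g ∧
        Spec.map (CommRingCat.ofHom (algebraMap L Ω)) ≫ v = s p ≫ pullback.fst f gΩ := by
    intro p
    have hfp : f (pullback.fst f gΩ p) ∈ V := by
      rw [← Scheme.Hom.comp_apply, pullback.condition, Scheme.Hom.comp_apply, hsub]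
      exact hyV
    obtain ⟨_, ⟨(W : X.Opens), hW, rfl⟩, hxW, hWV⟩ := X.isBasis_affineOpens.exists_subset_of_mem_open
      (show pullback.fst f gΩ p ∈ f ⁻¹ᵁ V from hfp) (f ⁻¹ᵁ V).2
    let φ := f.appLE V W hWV
    letI : Algebra Γ(Y, V) Γ(X, W) := φ.hom.toAlgebra
    haveI : Algebra.FiniteType Γ(Y, V) Γ(X, W) := f.finiteType_appLE hV hW hWV
    obtain ⟨G, hG⟩ := (inferInstance : Algebra.FiniteType Γ(Y, V) Γ(X, W)).out
    obtain ⟨u', hu'⟩ : ∃ u', u' ≫ hW.fromSpec = s p ≫ pullback.fst f gΩ := ⟨_, IsOpenImmersion.lift_fac _ _ (by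
      rintro _ ⟨a, rfl⟩
      rw [Scheme.Hom.comp_apply, hsp]
      exact hW.range_fromSpec.ge hxW)⟩
    obtain ⟨θ, rfl⟩ := Spec.map_surjective u'
    obtain ⟨g', hg'⟩ : ∃ g', g' ≫ hV.fromSpec = g := ⟨_, IsOpenImmersion.lift_fac _ _ (by
      rintro _ ⟨a, rfl⟩
      rw [Subsingleton.elim (α := PrimeSpectrum _) a (IsLocalRing.closedPoint K)]
      exact hV.range_fromSpec.ge hyV)⟩
    obtain ⟨κ, rfl⟩ := Spec.map_surjective g'
    have hcomm : θ.hom.comp φ.hom = (algebraMap K Ω).comp κ.hom := by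
      have h1 : Spec.map (φ ≫ θ) = Spec.map (κ ≫ CommRingCat.ofHom (algebraMap K Ω)) := by
        rw [← cancel_mono hV.fromSpec, Spec.map_comp, Category.assoc, hV.SpecMap_appLE_fromSpec f hW hWV,
          ← Category.assoc, hu', Category.assoc, pullback.condition, ← Category.assoc, hs, Category.id_comp,
          Spec.map_comp, Category.assoc, hg']
      exact congrArg CommRingCat.Hom.hom (Spec.map_injective h1)
    refine ⟨G.image θ.hom, fun L hL => ?_⟩
    have hmem : ∀ b, θ.hom b ∈ L := fun b => by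
      have hb : b ∈ Algebra.adjoin Γ(Y, V) (↑G : Set Γ(X, W)) := hG ▸ trivial
      induction hb using Algebra.adjoin_induction with
      | mem b hb => exact hL (Finset.mem_image_of_mem _ hb)
      | algebraMap a =>
        rw [show θ.hom (algebraMap Γ(Y, V) Γ(X, W) a) = algebraMap K Ω (κ.hom a) from RingHom.congr_fun hcomm a]
        exact L.algebraMap_mem _
      | add a b _ _ ha hb => rw [map_add]; exact L.add_mem ha hb
      | mul a b _ _ ha hb => rw [map_mul]; exact L.mul_mem ha hb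
    let θ' : Γ(X, W) →+* L := θ.hom.codRestrict L.toSubfield hmem
    refine ⟨Spec.map (CommRingCat.ofHom θ') ≫ hW.fromSpec, ?_, ?_⟩
    · have h3 : φ ≫ CommRingCat.ofHom θ' = κ ≫ CommRingCat.ofHom (algebraMap K L) :=
        CommRingCat.hom_ext (RingHom.ext fun a => Subtype.ext (RingHom.congr_fun hcomm a))
      rw [Category.assoc, ← hV.SpecMap_appLE_fromSpec f hW hWV, ← Spec.map_comp_assoc, h3, Spec.map_comp,
        Category.assoc, hg']
    · rw [← hu', ← Spec.map_comp_assoc]
      rfl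
  choose S hS using hchart
  let _ : Fintype ↥Q := Fintype.ofFinite _
  let T : Finset Ω := Finset.univ.biUnion S
  let L : IntermediateField K Ω := IntermediateField.adjoin K (↑T : Set Ω)
  haveI : FiniteDimensional K L := IntermediateField.finiteDimensional_adjoin fun x _ =>
    (Algebra.IsAlgebraic.isAlgebraic x).isIntegral
  refine ⟨L, inferInstance, ?_⟩
  suffices h : MoreMor.nGeomConnComp f (GeomRed6.pt g) = _ ∧ _ from h
  let gL := Spec.map (CommRingCat.ofHom (algebraMap K L)) ≫ g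
  let e := Spec.map (CommRingCat.ofHom (algebraMap L Ω))
  have hgΩ : e ≫ gL = gΩ := by
    rw [← Category.assoc, ← Spec.map_comp, ← CommRingCat.ofHom_comp, ← IsScalarTower.algebraMap_eq]
  let π : Q ⟶ pullback f gL := pullback.lift (pullback.fst _ _) (pullback.snd _ _ ≫ e)
    (by rw [Category.assoc, hgΩ, pullback.condition])
  have hsurj : Function.Surjective π := by
    intro z
    have sq : IsPullback π (pullback.snd f gΩ) (pullback.snd f gL) e := by
      refine IsPullback.of_right ?_ (pullback.lift_snd _ _ _) (IsPullback.of_hasPullback f gL)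
      rw [pullback.lift_fst, hgΩ]
      exact IsPullback.of_hasPullback f gΩ
    obtain ⟨q, hq, -⟩ := Scheme.exists_preimage_of_isPullback sq z (IsLocalRing.closedPoint Ω)
      (Subsingleton.elim (α := PrimeSpectrum _) _ _)
    exact ⟨q, hq⟩
  have hfac : ∀ p : ↥Q, ∃ t : Spec (CommRingCat.of L) ⟶ pullback f gL, t ≫ pullback.snd f gL = 𝟙 _ ∧
      e ≫ t = s p ≫ π := by
    intro p
    obtain ⟨v, hv, hv'⟩ := hS p L fun a ha =>
      IntermediateField.subset_adjoin K _ (Finset.mem_biUnion.2 ⟨p, Finset.mem_univ p, ha⟩)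
    refine ⟨pullback.lift v (𝟙 _) (by rw [Category.id_comp, hv]), pullback.lift_snd _ _ _, pullback.hom_ext ?_ ?_⟩
    · rw [Category.assoc, pullback.lift_fst, Category.assoc, pullback.lift_fst, hv']
    · rw [Category.assoc, pullback.lift_snd, Category.comp_id, Category.assoc, pullback.lift_snd,
        ← Category.assoc, hs, Category.id_comp]
  have hpt : ∀ (t : Spec (CommRingCat.of L) ⟶ pullback f gL) (r : ↥Q), e ≫ t = s r ≫ π → GeomRed6.pt t = π r :=
    fun t r ht => by
      rw [← hsp r (IsLocalRing.closedPoint Ω), ← Scheme.Hom.comp_apply, ← ht, Scheme.Hom.comp_apply]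
      exact congrArg t (Subsingleton.elim (α := PrimeSpectrum _) _ _)
  have hinj : Function.Injective π := by
    intro p q hpq
    obtain ⟨t₁, h₁, h₁'⟩ := hfac p
    obtain ⟨t₂, h₂, h₂'⟩ := hfac q
    have ht := point_unique (pullback.snd f gL) t₁ t₂ h₁ h₂ (by rw [hpt t₁ p h₁', hpt t₂ q h₂', hpq])
    have he : s p = s q := pullback.hom_ext (by
        have := congrArg (· ≫ pullback.fst f gL) (h₁'.symm.trans ((congrArg (e ≫ ·) ht).trans h₂'))
        simpa only [Category.assoc, π, pullback.lift_fst] using this) (by rw [hs, hs])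
    rw [← hsp p (IsLocalRing.closedPoint Ω), he, hsp]
  refine ⟨?_, fun z => ?_⟩
  · rw [← show GeomRed6.pt gΩ = GeomRed6.pt g from hsub _, nGeom_eq_card f gΩ]
    exact ENat.card_congr (Equiv.ofBijective π ⟨hinj, hsurj⟩)
  · obtain ⟨p, rfl⟩ := hsurj z
    obtain ⟨t, ht, ht'⟩ := hfac p
    exact ⟨t, ht, hpt t p ht'⟩

end GrothLib.DvrPts6
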