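import Groth.Agent.Lib.DvrPts6.Count
import Groth.Agent.Lib.UnivOpenAt6.Complete
import Groth.Agent.Lib.SubtrLim.Submersive
import Mathlib.FieldTheory.IsAlgClosed.AlgebraicClosure

/-!
# A discrete valuation ring realising two geometric numbers of points
-/

set_option autoImplicit false
set_option linter.style.haveILetI false

universe u

open CategoryTheory CategoryTheory.Limits AlgebraicGeometry Topology IsLocalRing

namespace GrothLib.DvrPts6

variable {X Y : Scheme.{u}}

/-- The integral closure of a complete discrete valuation ring in a finite extension. -/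
theorem dvr_integralClosure (A : Type u) [CommRing A] [IsDomain A] [IsDiscreteValuationRing A]
    [IsAdicComplete (maximalIdeal A) A] (L : Type u) [Field L] [Algebra (FractionRing A) L] [Algebra A L]
    [IsScalarTower A (FractionRing A) L] [FiniteDimensional (FractionRing A) L] :
    IsDiscreteValuationRing (integralClosure A L) ∧ IsFractionRing (integralClosure A L) L ∧
      IsLocalHom (algebraMap A (integralClosure A L)) := by
  haveI : FaithfulSMul A L := (faithfulSMul_iff_algebraMap_injective _ _).mpr <| by
    rw [IsScalarTower.algebraMap_eq A (FractionRing A) L]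
    exact (algebraMap (FractionRing A) L).injective.comp (IsFractionRing.injective A (FractionRing A))
  let O := integralClosure A L
  haveI : Module.Finite A O := GrothLib.Cohen.isN2_of_isAdicComplete A L inferInstance
  haveI : Algebra.IsIntegral A O := inferInstance
  haveI : IsLocalRing O := FormalUnibranch.isLocalRing_of_finite_domain (R := A)
  haveI : IsNoetherianRing O := IsNoetherianRing.of_finite A O
  haveI hfr : IsFractionRing O L := integralClosure.isFractionRing_of_finite_extension (FractionRing A) L
  haveI : IsIntegrallyClosed O := integralClosure.isIntegrallyClosedOfFiniteExtension (FractionRing A)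
  haveI : Ring.DimensionLEOne O := Ring.DimensionLEOne.of_isIntegral A O
  haveI : IsDedekindDomain O := {}
  have hAO : Function.Injective (algebraMap A O) := fun a b h => FaithfulSMul.algebraMap_injective A L
    (congrArg Subtype.val h)
  have hnf : ¬ IsField O := fun hF =>
    IsDiscreteValuationRing.not_isField A (isField_of_isIntegral_of_isField hAO hF)
  refine ⟨((IsDiscreteValuationRing.TFAE O hnf).out 0 2 rfl rfl).2 ‹_›, hfr, ?_⟩
  refine ((IsLocalRing.local_hom_TFAE _).out 0 4).2 ?_
  haveI := Ideal.isMaximal_comap_of_isIntegral_of_isMaximal (R := A) (maximalIdeal O)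
  exact eq_maximalIdeal ‹_›

theorem isSepClosed_residueField {A O : Type u} [CommRing A] [IsLocalRing A] [CommRing O] [IsLocalRing O]
    [Algebra A O] [Algebra.IsIntegral A O] [IsLocalHom (algebraMap A O)] [IsAlgClosed (ResidueField A)] :
    IsSepClosed (ResidueField O) := by
  letI : Algebra (ResidueField A) (ResidueField O) := (ResidueField.map (algebraMap A O)).toAlgebra
  haveI : IsScalarTower A (ResidueField A) (ResidueField O) := IsScalarTower.of_algebraMap_eq fun a => rfl
  haveI : Algebra.IsIntegral A (ResidueField O) :=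
    Algebra.IsIntegral.of_surjective (IsScalarTower.toAlgHom A O (ResidueField O)) IsLocalRing.residue_surjective
  haveI : Algebra.IsIntegral (ResidueField A) (ResidueField O) := Algebra.IsIntegral.tower_top (R := A)
  haveI : IsAlgClosed (ResidueField O) := IsAlgClosed.of_ringEquiv (ResidueField A) (ResidueField O)
    (RingEquiv.ofBijective (algebraMap (ResidueField A) (ResidueField O))
      (IsAlgClosed.ringHom_bijective_of_isIntegral _ (algebraMap_isIntegral_iff.mpr inferInstance)))
  infer_instance

/-- An extension of a discrete valuation ring over which the geometric numbers of points are realised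
and all generic points are rational. -/
theorem exists_extension_realizing (f : X ⟶ Y) [LocallyQuasiFinite f] [LocallyOfFiniteType f] [QuasiCompact f]
    (D : Type u) [CommRing D] [IsDomain D] [IsDiscreteValuationRing D] (g₀ : Spec (CommRingCat.of D) ⟶ Y) :
    ∃ (O : Type u) (_ : CommRing O) (_ : IsDomain O) (_ : IsDiscreteValuationRing O) (χ : D →+* O) (_ : IsLocalHom χ),
      Function.Injective χ ∧
      ∀ (g : Spec (CommRingCat.of O) ⟶ Y), g = Spec.map (CommRingCat.ofHom χ) ≫ g₀ →
      MoreMor.nGeomConnComp f (g (closedPoint O)) = ENat.card ↥((pullback.snd f g).fiber (closedPoint O)) ∧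
      MoreMor.nGeomConnComp f (g (genericPoint (Spec (CommRingCat.of O)))) =
        ENat.card ↥((pullback.snd f g).fiber (genericPoint (Spec (CommRingCat.of O)))) ∧
      ∀ z : ↥(pullback f g), pullback.snd f g z = genericPoint (Spec (CommRingCat.of O)) →
        ∃ (F : Type u) (_ : Field F) (_ : Algebra O F) (_ : IsFractionRing O F)
          (t : Spec (CommRingCat.of F) ⟶ pullback f g),
          t ≫ pullback.snd f g = Spec.map (CommRingCat.ofHom (algebraMap O F)) ∧ GeomRed6.pt t = z := by
  let k := AlgebraicClosure (ResidueField D)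
  obtain ⟨A, _, _, _, _, φ, ψ, hφ, hφl, hψ, hψφ⟩ := UnivOpenAt6.exists_complete_extension D k
    ((algebraMap (ResidueField D) k).comp (residue D))
    (by rw [RingHom.ker_comp_of_injective _ (algebraMap (ResidueField D) k).injective, IsLocalRing.ker_residue])
  haveI : IsAlgClosed (ResidueField A) := by
    have hker : RingHom.ker ψ = maximalIdeal A :=
      IsLocalRing.eq_maximalIdeal (RingHom.ker_isMaximal_of_surjective ψ hψ)
    exact IsAlgClosed.of_ringEquiv k (ResidueField A)
      ((RingHom.quotientKerEquivOfSurjective hψ).symm.trans (Ideal.quotEquivOfEq hker))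
  let K := FractionRing A
  let gK : Spec (CommRingCat.of K) ⟶ Y :=
    Spec.map (CommRingCat.ofHom ((algebraMap A K).comp φ)) ≫ g₀
  obtain ⟨L, hL, hcount, hrat⟩ := exists_finite_extension f gK
  obtain ⟨hO, hfr, hloc⟩ := dvr_integralClosure A L
  let O := integralClosure A L
  haveI : FaithfulSMul A L := (faithfulSMul_iff_algebraMap_injective _ _).mpr <| by
    rw [IsScalarTower.algebraMap_eq A K L]
    exact (algebraMap K L).injective.comp (IsFractionRing.injective A K)
  haveI := hO
  haveI := hfr
  haveI := hloc
  let χ : D →+* O := (algebraMap A O).comp φ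
  have hχ : Function.Injective χ := fun a b h => hφ (FaithfulSMul.algebraMap_injective A L (congrArg Subtype.val h))
  haveI : IsLocalHom χ := RingHom.isLocalHom_comp _ _
  refine ⟨O, inferInstance, inferInstance, hO, χ, inferInstance, hχ, ?_⟩
  rintro g rfl
  let g : Spec (CommRingCat.of O) ⟶ Y := Spec.map (CommRingCat.ofHom χ) ≫ g₀
  have hgen' : genericPoint (Spec (CommRingCat.of O)) = (⟨⊥, Ideal.isPrime_bot⟩ : PrimeSpectrum O) := genericPoint_eq_bot_of_affine _
  refine ⟨?_, ?_, ?_⟩
  · haveI : IsSepClosed (ResidueField O) := isSepClosed_residueField (A := A)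
    let ι := Spec.map (CommRingCat.ofHom (residue O))
    haveI : IsClosedImmersion ι := IsClosedImmersion.spec_of_surjective _ residue_surjective
    have hpt : GeomRed6.pt ι = closedPoint O := IsLocalRing.comap_closedPoint (residue O)
    rw [card_fiber_eq f g ι _ hpt, ← nGeom_eq_card f (ι ≫ g)]
    congr 1
    rw [← hpt]
    rfl
  · let ι := Spec.map (CommRingCat.ofHom (algebraMap O L))
    haveI : IsPreimmersion ι := IsPreimmersion.of_isLocalization (nonZeroDivisors O)
    have hpt : GeomRed6.pt ι = genericPoint (Spec (CommRingCat.of O)) := by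
      rw [hgen']
      refine PrimeSpectrum.ext ?_
      show (closedPoint L).asIdeal.comap (algebraMap O L) = ⊥
      rw [show (closedPoint L).asIdeal = (⊥ : Ideal L) from IsLocalRing.maximalIdeal_eq_bot, ← RingHom.ker_eq_comap_bot]
      exact (RingHom.injective_iff_ker_eq_bot _).1 (IsFractionRing.injective O L)
    have hfac : ι ≫ g = Spec.map (CommRingCat.ofHom (algebraMap K L)) ≫ gK := by
      rw [← Category.assoc, ← Category.assoc, ← Spec.map_comp, ← Spec.map_comp]
      congr 2
    rw [card_fiber_eq f g ι _ hpt, hfac, ← hcount]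
    congr 1
    rw [← hpt]
    have : GeomRed6.pt (Spec.map (CommRingCat.ofHom (algebraMap K L)) ≫ gK) = GeomRed6.pt (ι ≫ g) := by rw [hfac]
    exact this.symm.trans (congrArg gK (Subsingleton.elim (α := PrimeSpectrum _) _ _))
  · intro z hz
    let ι := Spec.map (CommRingCat.ofHom (algebraMap O L))
    have hfac : ι ≫ g = Spec.map (CommRingCat.ofHom (algebraMap K L)) ≫ gK := by
      rw [← Category.assoc, ← Category.assoc, ← Spec.map_comp, ← Spec.map_comp]
      congr 2
    have hpt : GeomRed6.pt ι = genericPoint (Spec (CommRingCat.of O)) := by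
      rw [hgen']
      refine PrimeSpectrum.ext ?_
      show (closedPoint L).asIdeal.comap (algebraMap O L) = ⊥
      rw [show (closedPoint L).asIdeal = (⊥ : Ideal L) from IsLocalRing.maximalIdeal_eq_bot, ← RingHom.ker_eq_comap_bot]
      exact (RingHom.injective_iff_ker_eq_bot _).1 (IsFractionRing.injective O L)
    let j : pullback f (Spec.map (CommRingCat.ofHom (algebraMap K L)) ≫ gK) ⟶ pullback f g :=
      pullback.lift (pullback.fst _ _) (pullback.snd _ _ ≫ ι) (by rw [pullback.condition, Category.assoc, hfac])
    have sq : IsPullback j (pullback.snd f _) (pullback.snd f g) ι := by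
      refine IsPullback.of_right ?_ (pullback.lift_snd _ _ _) (IsPullback.of_hasPullback f g)
      rw [pullback.lift_fst, hfac]
      exact IsPullback.of_hasPullback f _
    obtain ⟨zL, hzL, -⟩ := Scheme.exists_preimage_of_isPullback sq z (closedPoint L) (hz.trans hpt.symm)
    obtain ⟨t, ht, htz⟩ := hrat zL
    refine ⟨L, inferInstance, inferInstance, hfr, t ≫ j, ?_, ?_⟩
    · rw [Category.assoc, pullback.lift_snd, ← Category.assoc, ht, Category.id_comp]
    · rw [← hzL, ← htz]
      exact Scheme.Hom.comp_apply _ _ _

theorem exists_dvr_realizing [IsLocallyNoetherian Y] (f : X ⟶ Y) [LocallyQuasiFinite f] [LocallyOfFiniteType f]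
    [QuasiCompact f] (y y' : Y) (hgen : y' ⤳ y) :
    ∃ (A : Type u) (_ : CommRing A) (_ : IsDomain A) (_ : IsDiscreteValuationRing A) (g : Spec (CommRingCat.of A) ⟶ Y),
      g (closedPoint A) = y ∧ g (genericPoint (Spec (CommRingCat.of A))) = y' ∧
      MoreMor.nGeomConnComp f y = ENat.card ↥((pullback.snd f g).fiber (closedPoint A)) ∧
      MoreMor.nGeomConnComp f y' = ENat.card ↥((pullback.snd f g).fiber (genericPoint (Spec (CommRingCat.of A)))) := by
  obtain ⟨D, _, _, _, g₀, hg₀, hg₀'⟩ := SubtrLim.exists_dvr_map hgen
  obtain ⟨O, _, _, _, χ, _, hχ, h⟩ := exists_extension_realizing f D g₀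
  obtain ⟨h1, h2, -⟩ := h _ rfl
  have hc : (Spec.map (CommRingCat.ofHom χ) ≫ g₀) (closedPoint O) = y := by
    rw [Scheme.Hom.comp_apply, ← hg₀']
    exact congrArg g₀ (IsLocalRing.comap_closedPoint χ)
  have hη : (Spec.map (CommRingCat.ofHom χ) ≫ g₀) (genericPoint (Spec (CommRingCat.of O))) = y' := by
    rw [Scheme.Hom.comp_apply, ← hg₀, show genericPoint (Spec (CommRingCat.of O)) =
      (⟨⊥, Ideal.isPrime_bot⟩ : PrimeSpectrum O) from genericPoint_eq_bot_of_affine _]
    exact congrArg g₀ (PrimeSpectrum.ext ((RingHom.ker_eq_comap_bot χ).symm.trans ((RingHom.injective_iff_ker_eq_bot χ).1 hχ)))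
  exact ⟨O, inferInstance, inferInstance, inferInstance, _, hc, hη, hc ▸ h1, hη ▸ h2⟩

end GrothLib.DvrPts6
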