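import Groth.Agent.Lib.DvrPts6.Semicont
import Groth.Agent.Lib.GeomComp6.Locus
import Groth.Agent.Lib.LocProp.Stalk
import Groth.Agent.Lib.NoethTop.Spectral
import Groth.Agent.Lib.Constr.Basic

/-!
# Lower semicontinuity at a point of the geometric number of points
-/

set_option autoImplicit false
set_option linter.style.haveILetI false

universe u

open CategoryTheory CategoryTheory.Limits AlgebraicGeometry Topology

namespace GrothLib.DvrPts6

variable {X Y : Scheme.{u}}

theorem nGeom_le_nhd [IsLocallyNoetherian Y] (f : X ⟶ Y) [IsSeparated f] [LocallyQuasiFinite f]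
    [LocallyOfFiniteType f] [QuasiCompact f] {y : Y} (h : ∀ x : X, f x = y → EGA43.IsUnivOpenAt f x) :
    ∃ V ∈ 𝓝 y, ∀ z ∈ V, MoreMor.nGeomConnComp f y ≤ MoreMor.nGeomConnComp f z := by
  classical
  haveI : LocallyOfFinitePresentation f := GrothLib.LocProp.locallyOfFinitePresentation_of_isLocallyNoetherian f
  let n := MoreMor.nGeomConnComp f y
  have hB : IsLocallyConstructible {z : Y | MoreMor.nGeomConnComp f z < n} := by
    have h1 := GeomComp6.isLocallyConstructible_geomCount f (fun c => decide (c.2 < n)) true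
    simpa using h1
  obtain ⟨_, ⟨(U : Y.Opens), hU, rfl⟩, hyU, -⟩ := Y.isBasis_affineOpens.exists_subset_of_mem_open
    (Set.mem_univ y) isOpen_univ
  obtain ⟨w, hw⟩ := hU.range_fromSpec.ge hyU
  let B' : Set (PrimeSpectrum Γ(Y, U)) := hU.fromSpec ⁻¹' {z | MoreMor.nGeomConnComp f z < n}
  have hB' : IsConstructible B' :=
    (hB.preimage_of_isOpenEmbedding hU.fromSpec.isOpenEmbedding).isConstructible
  have hnot : w ∉ closure B' := fun hcl => by
    obtain ⟨e, he, hsp⟩ := SpecSp.exists_specializes_of_mem_closure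
      (Constr.isClosed_constructibleTopology_of_isConstructible hB') hcl
    have h2 := nGeom_le_of_specializes f h (hw ▸ hsp.map hU.fromSpec.continuous)
    exact (not_lt.2 h2) he
  refine ⟨hU.fromSpec '' (closure B')ᶜ, hw ▸ hU.fromSpec.isOpenEmbedding.isOpenMap.image_mem_nhds
    (isClosed_closure.isOpen_compl.mem_nhds hnot), ?_⟩
  rintro _ ⟨e, he, rfl⟩
  exact not_lt.1 fun hlt => he (subset_closure hlt)

end GrothLib.DvrPts6
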