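import Groth.Agent.Lib.DvrPts6.Main
import Groth.Agent.Lib.DvrPts6.Valuative
import Groth.Agent.Lib.UnivOpenAt6.Basic

/-!
# Universal openness over a point and the geometric numbers of points at its generizations
-/

set_option autoImplicit false
set_option linter.style.haveILetI false

universe u

open CategoryTheory CategoryTheory.Limits AlgebraicGeometry Topology IsLocalRing

namespace GrothLib.DvrPts6

variable {X Y : Scheme.{u}}

theorem finite_fiber {S : Scheme.{u}} (p : X ⟶ S) [LocallyQuasiFinite p] [QuasiCompact p] (s : S) :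
    Finite ↥(p.fiber s) := by
  haveI : CompactSpace ↥(p.fiber s) := inferInstance
  haveI : DiscreteTopology ↥(p.fiber s) := inferInstance
  exact finite_of_compact_of_discrete

/-- Over a valuation ring with rational generic points, each closed point is the centre of a generic point,
a generic point has at most one centre, and if the numbers agree it has one. -/
theorem card_le_and_centre (f : X ⟶ Y) [IsSeparated f] [LocallyQuasiFinite f] [LocallyOfFiniteType f] [QuasiCompact f]
    (O : Type u) [CommRing O] [IsDomain O] [IsDiscreteValuationRing O] (g : Spec (CommRingCat.of O) ⟶ Y)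
    (hop : ∀ x : X, f x = g (closedPoint O) → EGA43.IsUnivOpenAt f x)
    (hrat : ∀ z : ↥(pullback f g), pullback.snd f g z = genericPoint (Spec (CommRingCat.of O)) →
        ∃ (F : Type u) (_ : Field F) (_ : Algebra O F) (_ : IsFractionRing O F)
          (t : Spec (CommRingCat.of F) ⟶ pullback f g),
          t ≫ pullback.snd f g = Spec.map (CommRingCat.ofHom (algebraMap O F)) ∧ GeomRed6.pt t = z) :
    ENat.card ↥((pullback.snd f g).fiber (closedPoint O)) ≤
        ENat.card ↥((pullback.snd f g).fiber (genericPoint (Spec (CommRingCat.of O)))) ∧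
      (ENat.card ↥((pullback.snd f g).fiber (closedPoint O)) =
          ENat.card ↥((pullback.snd f g).fiber (genericPoint (Spec (CommRingCat.of O)))) →
        ∀ z : ↥(pullback f g), pullback.snd f g z = genericPoint (Spec (CommRingCat.of O)) →
          ∃ x, z ⤳ x ∧ pullback.snd f g x = closedPoint O) := by
  let p := pullback.snd f g
  haveI : IsSeparated p := MorphismProperty.pullback_snd f g inferInstance
  haveI : LocallyQuasiFinite p := MorphismProperty.pullback_snd f g inferInstance
  haveI : QuasiCompact p := MorphismProperty.pullback_snd f g inferInstance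
  let C := p ⁻¹' {closedPoint O}
  let G := p ⁻¹' {genericPoint (Spec (CommRingCat.of O))}
  have hgen : HTop.gen (CommRingCat.of O) = genericPoint (Spec (CommRingCat.of O)) :=
    (genericPoint_eq_bot_of_affine _).symm
  have hex : ∀ x : C, ∃ z : G, (z : ↥(pullback f g)) ⤳ x := fun x => by
    have hfx : f (pullback.fst f g x.1) = g (closedPoint O) := by
      rw [← Scheme.Hom.comp_apply, pullback.condition, Scheme.Hom.comp_apply]
      exact congrArg g x.2
    obtain ⟨z, hz, hzg⟩ := UnivOpenAt6.dvr_of_univOpenAt f (hop _ hfx) O g x.1 rfl x.2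
    exact ⟨⟨z, hzg.trans hgen⟩, hz⟩
  choose Φ hΦ using hex
  have huniq : ∀ (z : G) (x₁ x₂ : C), (z : ↥(pullback f g)) ⤳ x₁ → (z : ↥(pullback f g)) ⤳ x₂ → x₁ = x₂ := by
    intro z x₁ x₂ h₁ h₂
    obtain ⟨F, _, _, _, t, ht, htz⟩ := hrat z.1 z.2
    obtain ⟨s₁, hs₁, hs₁', hs₁''⟩ := exists_section_of_specializes p t ht x₁.1 (htz ▸ h₁) x₁.2
    obtain ⟨s₂, hs₂, hs₂', hs₂''⟩ := exists_section_of_specializes p t ht x₂.1 (htz ▸ h₂) x₂.2
    have he := section_unique p (F := F) s₁ s₂ hs₁ hs₂ (hs₁''.trans hs₂''.symm)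
    exact Subtype.ext (by rw [← hs₁', he, hs₂'])
  have hinj : Function.Injective Φ := fun x₁ x₂ h => huniq (Φ x₂) x₁ x₂ (h ▸ hΦ x₁) (hΦ x₂)
  have hc : ENat.card ↥(p.fiber (closedPoint O)) = ENat.card C := ENat.card_congr (p.fiberHomeo _).toEquiv
  have hg : ENat.card ↥(p.fiber (genericPoint (Spec (CommRingCat.of O)))) = ENat.card G :=
    ENat.card_congr (p.fiberHomeo _).toEquiv
  rw [hc, hg]
  refine ⟨ENat.card_le_card_of_injective hinj, fun he z hz => ?_⟩
  haveI : Finite C := @Finite.of_equiv _ _ (finite_fiber p _) (p.fiberHomeo _).toEquiv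
  haveI : Finite G := @Finite.of_equiv _ _ (finite_fiber p _) (p.fiberHomeo _).toEquiv
  have hn : Nat.card C = Nat.card G := by
    rw [ENat.card_eq_coe_natCard, ENat.card_eq_coe_natCard] at he
    exact_mod_cast he
  obtain ⟨x, hx⟩ := (hinj.bijective_of_nat_card_le hn.ge).2 ⟨z, hz⟩
  exact ⟨x.1, by have h4 := hΦ x; rw [hx] at h4; exact h4, x.2⟩

theorem closedPoint_and_generic {D O : Type u} [CommRing D] [IsDomain D] [IsLocalRing D] [CommRing O] [IsDomain O]
    [IsLocalRing O] (χ : D →+* O) [IsLocalHom χ] (hχ : Function.Injective χ) :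
    Spec.map (CommRingCat.ofHom χ) (closedPoint O) = closedPoint D ∧
      Spec.map (CommRingCat.ofHom χ) (genericPoint (Spec (CommRingCat.of O))) = genericPoint (Spec (CommRingCat.of D)) := by
  refine ⟨IsLocalRing.comap_closedPoint χ, ?_⟩
  rw [show genericPoint (Spec (CommRingCat.of D)) = (⟨⊥, Ideal.isPrime_bot⟩ : PrimeSpectrum D) from
    genericPoint_eq_bot_of_affine _, show genericPoint (Spec (CommRingCat.of O)) =
    (⟨⊥, Ideal.isPrime_bot⟩ : PrimeSpectrum O) from genericPoint_eq_bot_of_affine _]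
  exact PrimeSpectrum.ext ((RingHom.ker_eq_comap_bot χ).symm.trans ((RingHom.injective_iff_ker_eq_bot χ).1 hχ))

/-- The geometric number of points does not drop at generizations of a point with a universally open fibre. -/
theorem nGeom_le_of_specializes [IsLocallyNoetherian Y] (f : X ⟶ Y) [IsSeparated f] [LocallyQuasiFinite f]
    [LocallyOfFiniteType f] [QuasiCompact f] {y y' : Y} (h : ∀ x : X, f x = y → EGA43.IsUnivOpenAt f x)
    (hgen : y' ⤳ y) : MoreMor.nGeomConnComp f y ≤ MoreMor.nGeomConnComp f y' := by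
  obtain ⟨D, _, _, _, g₀, hg₀, hg₀'⟩ := SubtrLim.exists_dvr_map hgen
  obtain ⟨O, _, _, _, χ, _, hχ, hO⟩ := exists_extension_realizing f D g₀
  obtain ⟨h1, h2, h3⟩ := hO _ rfl
  obtain ⟨hc, hη⟩ := closedPoint_and_generic χ hχ
  rw [Scheme.Hom.comp_apply, hc, show g₀ (closedPoint D) = y from hg₀'] at h1
  rw [Scheme.Hom.comp_apply, hη, show g₀ (genericPoint (Spec (CommRingCat.of D))) = y' from
    (congrArg g₀ (genericPoint_eq_bot_of_affine _)).trans hg₀] at h2
  rw [h1, h2]
  refine (card_le_and_centre f O _ (fun x hx => h x ?_) h3).1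
  rw [hx, Scheme.Hom.comp_apply, hc]
  exact hg₀'

/-- Points over the fraction field of a discrete valuation ring at `y` extend to sections when the
geometric number of points is the same at the two points. -/
theorem exists_section_of_nGeom_eq (f : X ⟶ Y) [IsSeparated f] [LocallyQuasiFinite f]
    [LocallyOfFiniteType f] [QuasiCompact f]
    (D : Type u) [CommRing D] [IsDomain D] [IsDiscreteValuationRing D] (g₀ : Spec (CommRingCat.of D) ⟶ Y)
    (h : ∀ x : X, f x = g₀ (closedPoint D) → EGA43.IsUnivOpenAt f x)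
    (heq : MoreMor.nGeomConnComp f (g₀ (genericPoint (Spec (CommRingCat.of D)))) =
      MoreMor.nGeomConnComp f (g₀ (closedPoint D)))
    {K : Type u} [Field K] [Algebra D K] [IsFractionRing D K] (σ : Spec (CommRingCat.of K) ⟶ pullback f g₀)
    (hσ : σ ≫ pullback.snd f g₀ = Spec.map (CommRingCat.ofHom (algebraMap D K))) :
    ∃ s : Spec (CommRingCat.of D) ⟶ pullback f g₀, s ≫ pullback.snd f g₀ = 𝟙 _ ∧
      Spec.map (CommRingCat.ofHom (algebraMap D K)) ≫ s = σ := by
  obtain ⟨O, _, _, _, χ, _, hχ, hO⟩ := exists_extension_realizing f D g₀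
  obtain ⟨h1, h2, h3⟩ := hO _ rfl
  obtain ⟨hc, hη⟩ := closedPoint_and_generic χ hχ
  rw [Scheme.Hom.comp_apply, hc] at h1
  rw [Scheme.Hom.comp_apply, hη] at h2
  have hcentre := (card_le_and_centre f O _ (fun x hx => h x (by rw [hx, Scheme.Hom.comp_apply, hc])) h3).2
    (h1.symm.trans (heq.symm.trans h2))
  let j : pullback f (Spec.map (CommRingCat.ofHom χ) ≫ g₀) ⟶ pullback f g₀ :=
    pullback.lift (pullback.fst _ _) (pullback.snd _ _ ≫ Spec.map (CommRingCat.ofHom χ))
      (by rw [pullback.condition, Category.assoc])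
  have sq : IsPullback j (pullback.snd f _) (pullback.snd f g₀) (Spec.map (CommRingCat.ofHom χ)) := by
    refine IsPullback.of_right ?_ (pullback.lift_snd _ _ _) (IsPullback.of_hasPullback f g₀)
    rw [pullback.lift_fst]
    exact IsPullback.of_hasPullback f _
  have hσpt : pullback.snd f g₀ (GeomRed6.pt σ) = genericPoint (Spec (CommRingCat.of D)) := by
    rw [show pullback.snd f g₀ (GeomRed6.pt σ) = GeomRed6.pt (Spec.map (CommRingCat.ofHom (algebraMap D K))) from
      (congrArg GeomRed6.pt hσ ▸ (Scheme.Hom.comp_apply σ (pullback.snd f g₀) _).symm),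
      show genericPoint (Spec (CommRingCat.of D)) = (⟨⊥, Ideal.isPrime_bot⟩ : PrimeSpectrum D) from
        genericPoint_eq_bot_of_affine _]
    refine PrimeSpectrum.ext ?_
    show (closedPoint K).asIdeal.comap (algebraMap D K) = ⊥
    rw [show (closedPoint K).asIdeal = (⊥ : Ideal K) from IsLocalRing.maximalIdeal_eq_bot, ← RingHom.ker_eq_comap_bot]
    exact (RingHom.injective_iff_ker_eq_bot _).1 (IsFractionRing.injective D K)
  obtain ⟨z, hz, hzg⟩ := Scheme.exists_preimage_of_isPullback sq (GeomRed6.pt σ)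
    (genericPoint (Spec (CommRingCat.of O))) (hσpt.trans hη.symm)
  obtain ⟨x, hx, hxc⟩ := hcentre z hzg
  obtain ⟨s, hs, -, hsσ⟩ := exists_section_of_specializes (pullback.snd f g₀) σ hσ (j x)
    (hz ▸ hx.map j.continuous) (by rw [← Scheme.Hom.comp_apply, sq.w, Scheme.Hom.comp_apply, hxc, hc])
  exact ⟨s, hs, hsσ⟩

end GrothLib.DvrPts6
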